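import Groth.Agent.Lib.FinAffine12.Basic
import Mathlib.AlgebraicGeometry.ProjectiveSpectrum.Basic

/-!
# Finite sets of points of a projective spectrum in affine opens
-/

universe u

set_option autoImplicit false
set_option backward.isDefEq.respectTransparency.types false

open AlgebraicGeometry CategoryTheory

namespace Groth.Agent.FinAffine12

variable {R A : Type u} [CommRing R] [CommRing A] [Algebra R A]
  (𝒜 : ℕ → Submodule R A) [GradedAlgebra 𝒜]

theorem exists_homogeneous_nhd (x : Proj 𝒜) (O : (Proj 𝒜).Opens) (hx : x ∈ O) :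
    ∃ (g : A) (n : ℕ), 0 < n ∧ g ∈ 𝒜 n ∧ x ∈ Proj.basicOpen 𝒜 g ∧ Proj.basicOpen 𝒜 g ≤ O := by
  obtain ⟨a, hxa, hle⟩ : ∃ a, x ∈ Proj.basicOpen 𝒜 a ∧ Proj.basicOpen 𝒜 a ≤ O := by
    obtain ⟨_, ⟨a, rfl⟩, hxa, hle⟩ :=
      TopologicalSpace.Opens.isBasis_iff_nbhd.1 (Proj.isBasis_basicOpen 𝒜) hx
    exact ⟨a, hxa, hle⟩
  rw [Proj.basicOpen_eq_iSup_proj] at hxa hle
  obtain ⟨i, hi⟩ := TopologicalSpace.Opens.mem_iSup.1 hxa
  obtain ⟨b, hb, hbx⟩ : ∃ b ∈ HomogeneousIdeal.irrelevant 𝒜, b ∉ x.asHomogeneousIdeal :=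
    Set.not_subset.1 x.not_irrelevant_le
  obtain ⟨j, hj⟩ : ∃ j, GradedRing.proj 𝒜 j b ∉ x.asHomogeneousIdeal := by
    by_contra h
    push Not at h
    apply hbx
    classical
    rw [← DirectSum.sum_support_decompose 𝒜 b]
    exact x.asHomogeneousIdeal.toIdeal.sum_mem fun j _ => h j
  have hj0 : 0 < j := by
    rcases Nat.eq_zero_or_pos j with rfl | h
    · exact absurd (by rw [(HomogeneousIdeal.mem_irrelevant_iff 𝒜 b).1 hb]; exact x.asHomogeneousIdeal.toIdeal.zero_mem) hj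
    · exact h
  refine ⟨GradedRing.proj 𝒜 i a * GradedRing.proj 𝒜 j b, i + j, by omega,
    SetLike.mul_mem_graded (SetLike.coe_mem _) (SetLike.coe_mem _), ?_, ?_⟩
  · rw [Proj.basicOpen_mul]
    exact ⟨hi, hj⟩
  · rw [Proj.basicOpen_mul]
    exact inf_le_left.trans ((le_iSup (fun i => Proj.basicOpen 𝒜 (GradedRing.proj 𝒜 i a)) i).trans hle)

theorem exists_homogeneous_finite (W : (Proj 𝒜).Opens) (E : Finset ↥(Proj 𝒜)) (hEW : ∀ e ∈ E, e ∈ W)
    (hne : E.Nonempty) :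
    ∃ (f : A) (n : ℕ), 0 < n ∧ f ∈ 𝒜 n ∧ Proj.basicOpen 𝒜 f ≤ W ∧ ∀ e ∈ E, e ∈ Proj.basicOpen 𝒜 f := by
  classical
  induction E using Finset.strongInduction with
  | H E ih =>
    obtain ⟨x, hxE, hmax⟩ := E.exists_maximal hne
    have hsep : ∀ e ∈ E.erase x, ¬ e ⤳ x := fun e he hsp => by
      obtain ⟨hne, heE⟩ := Finset.mem_erase.1 he
      have h1 : x ≤ e := hsp
      have h2 : x ⤳ e := hmax heE h1
      exact hne ((hsp.antisymm h2).eq)
    have key : ∀ S : Finset ↥(Proj 𝒜), (∀ e ∈ S, ¬ e ⤳ x) →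
        ∃ (t : A) (n : ℕ), 0 < n ∧ t ∈ 𝒜 n ∧ x ∈ Proj.basicOpen 𝒜 t ∧ Proj.basicOpen 𝒜 t ≤ W ∧
          ∀ e ∈ S, e ∉ Proj.basicOpen 𝒜 t := by
      intro S hS
      induction S using Finset.induction with
      | empty =>
        obtain ⟨g, n, hn, hg, hxg, hle⟩ := exists_homogeneous_nhd 𝒜 x W (hEW x hxE)
        exact ⟨g, n, hn, hg, hxg, hle, by simp⟩
      | insert e S _ ih' =>
        obtain ⟨t, n, hn, ht, hxt, hle, hS'⟩ := ih' fun e' he' => hS e' (Finset.mem_insert_of_mem he')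
        obtain ⟨O, hO, hxO, heO⟩ := not_specializes_iff_exists_open.1 (hS e (Finset.mem_insert_self _ _))
        obtain ⟨g, m, hm, hg, hxg, hgle⟩ := exists_homogeneous_nhd 𝒜 x ⟨O, hO⟩ hxO
        refine ⟨t * g, n + m, by omega, SetLike.mul_mem_graded ht hg, ?_, ?_, ?_⟩
        · rw [Proj.basicOpen_mul]; exact ⟨hxt, hxg⟩
        · rw [Proj.basicOpen_mul]; exact inf_le_left.trans hle
        · intro e' he'
          rw [Proj.basicOpen_mul]
          rintro ⟨h1, h2⟩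
          rcases Finset.mem_insert.1 he' with rfl | h
          · exact heO (hgle h2)
          · exact hS' e' h h1
    obtain ⟨t, m, hm, ht, hxt, htle, htS⟩ := key (E.erase x) hsep
    rcases (E.erase x).eq_empty_or_nonempty with hem | hne'
    · refine ⟨t, m, hm, ht, htle, fun e he => ?_⟩
      by_cases hex : e = x
      · exact hex ▸ hxt
      · exact absurd (Finset.mem_erase.2 ⟨hex, he⟩) (by simp [hem])
    obtain ⟨f, n, hn, hf, hfle, hfE⟩ := ih (E.erase x) (Finset.erase_ssubset hxE)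
      (fun e he => hEW e (Finset.mem_of_mem_erase he)) hne'
    by_cases hxf : x ∈ Proj.basicOpen 𝒜 f
    · refine ⟨f, n, hn, hf, hfle, fun e he => ?_⟩
      by_cases hex : e = x
      · exact hex ▸ hxf
      · exact hfE e (Finset.mem_erase.2 ⟨hex, he⟩)
    have hmem : ∀ (p : Proj 𝒜) (g : A) (k : ℕ), 0 < k →
        (p ∈ Proj.basicOpen 𝒜 g ↔ g ^ k ∉ p.asHomogeneousIdeal) := fun p g k hk => by
      rw [← Proj.basicOpen_pow 𝒜 g k hk, Proj.mem_basicOpen]
    refine ⟨f ^ m + t ^ n, n * m, Nat.mul_pos hn hm, add_mem ?_ ?_, fun p hp => ?_, fun e he => ?_⟩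
    · simpa [smul_eq_mul, mul_comm] using SetLike.pow_mem_graded m hf
    · simpa [smul_eq_mul, mul_comm] using SetLike.pow_mem_graded n ht
    · rw [Proj.mem_basicOpen] at hp
      by_cases hpf : f ^ m ∈ p.asHomogeneousIdeal
      · exact htle ((hmem p t n hn).2 fun h => hp (p.asHomogeneousIdeal.toIdeal.add_mem hpf h))
      · exact hfle ((hmem p f m hm).2 hpf)
    · rw [Proj.mem_basicOpen]
      intro hsum
      by_cases hex : e = x
      · subst hex
        have h1 : f ^ m ∈ e.asHomogeneousIdeal := by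
          by_contra h
          exact hxf ((hmem e f m hm).2 h)
        exact (hmem e t n hn).1 hxt ((Ideal.add_mem_iff_right _ h1).1 hsum)
      · have h1 : t ^ n ∈ e.asHomogeneousIdeal := by
          by_contra h
          exact htS e (Finset.mem_erase.2 ⟨hex, he⟩) ((hmem e t n hn).2 h)
        exact (hmem e f m hm).1 (hfE e (Finset.mem_erase.2 ⟨hex, he⟩)) ((Ideal.add_mem_iff_left _ h1).1 hsum)

theorem exists_affineOpen_of_finite_proj {X : Scheme.{u}} (ι : X ⟶ Proj 𝒜) [IsImmersion ι]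
    (E : Set X) (hE : E.Finite) : ∃ U : X.Opens, IsAffineOpen U ∧ E ⊆ U := by
  rcases E.eq_empty_or_nonempty with rfl | hne
  · exact ⟨⊥, isAffineOpen_bot X, Set.empty_subset _⟩
  obtain ⟨f, n, hn, hf, hle, hEf⟩ := exists_homogeneous_finite 𝒜 ι.coborderRange (hE.image ι).toFinset
    (fun e he => by
      obtain ⟨x, _, hxe⟩ := (hE.image ι).mem_toFinset.1 he
      exact subset_coborder ⟨x, hxe⟩)
    (by simpa using hne)
  refine ⟨ι.liftCoborder ⁻¹ᵁ (ι.coborderRange.ι ⁻¹ᵁ Proj.basicOpen 𝒜 f), ?_, fun x hx => ?_⟩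
  · refine IsAffineOpen.preimage ?_ _
    rw [← ι.coborderRange.ι.isAffineOpen_iff_of_isOpenImmersion,
      ι.coborderRange.ι.image_preimage_eq_opensRange_inf, Scheme.Opens.opensRange_ι,
      inf_eq_right.2 hle]
    exact Proj.isAffineOpen_basicOpen 𝒜 f hf hn
  · change (ι.liftCoborder ≫ ι.coborderRange.ι) x ∈ Proj.basicOpen 𝒜 f
    rw [ι.liftCoborder_ι]
    exact hEf _ ((hE.image ι).mem_toFinset.2 ⟨x, hx, rfl⟩)

end Groth.Agent.FinAffine12
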