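import Mathlib.AlgebraicGeometry.Morphisms.Immersion
import Mathlib.RingTheory.Ideal.Operations

/-!
# Finite sets of points in affine opens
-/

universe u

set_option autoImplicit false
set_option backward.isDefEq.respectTransparency.types false

open AlgebraicGeometry CategoryTheory

namespace Groth.Agent.FinAffine12

/-- In an affine scheme, a finite set of points of an open set lies in a basic open inside it. -/
theorem exists_basicOpen_of_finite {Y : Scheme.{u}} [IsAffine Y] (W : Y.Opens) (E : Set Y)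
    (hE : E.Finite) (hEW : E ⊆ W) :
    ∃ f : Γ(Y, ⊤), Y.basicOpen f ≤ W ∧ E ⊆ Y.basicOpen f := by
  classical
  let χ : ∀ x : Y, Γ(Y, ⊤) →+* IsLocalRing.ResidueField (Y.presheaf.stalk x) := fun x =>
    (IsLocalRing.residue _).comp (Y.presheaf.germ ⊤ x trivial).hom
  have hmem : ∀ (x : Y) (g : Γ(Y, ⊤)), x ∈ Y.basicOpen g ↔ g ∉ RingHom.ker (χ x) := fun x g => by
    rw [Scheme.mem_basicOpen (U := ⊤) _ _ x trivial, RingHom.mem_ker]
    exact (IsLocalRing.residue_ne_zero_iff_isUnit _).symm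
  let J : Ideal Γ(Y, ⊤) :=
    { carrier := {g | Y.basicOpen g ≤ W}
      add_mem' := fun {a b} ha hb x hx => by
        rw [Scheme.mem_basicOpen (U := ⊤) _ _ x trivial, map_add] at hx
        rcases IsLocalRing.isUnit_or_isUnit_of_isUnit_add hx with h | h
        · exact ha ((Scheme.mem_basicOpen (U := ⊤) _ _ x trivial).2 h)
        · exact hb ((Scheme.mem_basicOpen (U := ⊤) _ _ x trivial).2 h)
      zero_mem' := by simp
      smul_mem' := fun c g hg => by
        rw [Set.mem_ofPred, smul_eq_mul, Scheme.basicOpen_mul]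
        exact inf_le_right.trans hg }
  by_contra hcon
  push Not at hcon
  have hsub : (J : Set Γ(Y, ⊤)) ⊆ ⋃ x ∈ (↑hE.toFinset : Set Y), (RingHom.ker (χ x) : Set Γ(Y, ⊤)) := by
    intro g hg
    obtain ⟨x, hx, hxg⟩ := Set.not_subset.1 (hcon g hg)
    rw [Set.mem_iUnion₂]
    refine ⟨x, hE.mem_toFinset.2 hx, ?_⟩
    by_contra h
    exact hxg ((hmem x g).2 h)
  rcases E.eq_empty_or_nonempty with rfl | ⟨a, ha⟩
  · exact absurd (hcon 0 (by simp)) (by simp)
  obtain ⟨x, hx, hle⟩ := (Ideal.subset_union_prime a a fun i _ _ _ => RingHom.ker_isPrime _).1 hsub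
  obtain ⟨g, hg, hxg⟩ := (isAffineOpen_top Y).exists_basicOpen_le (V := W)
    ⟨x, hEW (hE.mem_toFinset.1 hx)⟩ trivial
  exact (hmem x g).1 hxg (hle hg)

theorem exists_affineOpen_of_finite {X Y : Scheme.{u}} [IsAffine Y] (ι : X ⟶ Y)
    [IsImmersion ι] (E : Set X) (hE : E.Finite) :
    ∃ U : X.Opens, IsAffineOpen U ∧ E ⊆ U := by
  have hW : ι '' E ⊆ ι.coborderRange := fun y ⟨x, _, hxy⟩ => subset_coborder ⟨x, hxy⟩
  obtain ⟨f, hf, hEf⟩ := exists_basicOpen_of_finite ι.coborderRange _ (hE.image ι) hW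
  refine ⟨ι.liftCoborder ⁻¹ᵁ (ι.coborderRange.ι ⁻¹ᵁ Y.basicOpen f), ?_, fun x hx => ?_⟩
  · refine IsAffineOpen.preimage ?_ _
    rw [← ι.coborderRange.ι.isAffineOpen_iff_of_isOpenImmersion,
      ι.coborderRange.ι.image_preimage_eq_opensRange_inf, Scheme.Opens.opensRange_ι,
      inf_eq_right.2 hf]
    exact (isAffineOpen_top Y).basicOpen f
  · change (ι.liftCoborder ≫ ι.coborderRange.ι) x ∈ Y.basicOpen f
    rw [ι.liftCoborder_ι]
    exact hEf ⟨x, hx, rfl⟩

end Groth.Agent.FinAffine12
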